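import Mathlib
import Groth.Agent.TensorNoEmb.Alg

/-!
Maximal points of the fibres of `G ⊗ K → G` for a field extension `K / k`.
-/

set_option autoImplicit false
set_option backward.isDefEq.respectTransparency false
set_option backward.isDefEq.respectTransparency.types false
set_option linter.style.haveILetI false

universe u

open CategoryTheory Limits AlgebraicGeometry TensorProduct

namespace Groth.Agent.FibreMax

/-- No strict specializations in the fibres of an integral morphism. -/
theorem eq_of_specializes {X Y : Scheme.{u}} (ρ : X ⟶ Y) [IsIntegralHom ρ] {z z' : X}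
    (h : z' ⤳ z) (he : ρ.base z' = ρ.base z) : z' = z := by
  obtain ⟨V, hV, hzV, -⟩ := exists_isAffineOpen_mem_and_subset (TopologicalSpace.Opens.mem_top (ρ.base z))
  have hU : IsAffineOpen (ρ ⁻¹ᵁ V) := hV.preimage ρ
  have hz'V : z' ∈ ρ ⁻¹ᵁ V := h.mem_open (ρ ⁻¹ᵁ V).isOpen hzV
  obtain ⟨P, rfl⟩ : z ∈ Set.range hU.fromSpec.base := by rw [hU.range_fromSpec]; exact hzV
  obtain ⟨P', rfl⟩ : z' ∈ Set.range hU.fromSpec.base := by rw [hU.range_fromSpec]; exact hz'V
  have hle : P'.asIdeal ≤ P.asIdeal :=
    (PrimeSpectrum.le_iff_specializes P' P).mpr (hU.fromSpec.isOpenEmbedding.isInducing.specializes_iff.1 h)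
  have hint : (ρ.appLE V (ρ ⁻¹ᵁ V) le_rfl).hom.IsIntegral := by
    rw [Scheme.Hom.appLE_eq_app]; exact ρ.isIntegral_app V hV
  have hc : P'.asIdeal.comap (ρ.appLE V (ρ ⁻¹ᵁ V) le_rfl).hom =
      P.asIdeal.comap (ρ.appLE V (ρ ⁻¹ᵁ V) le_rfl).hom := by
    have key : ∀ Q, hV.fromSpec.base ((Spec.map (ρ.appLE V (ρ ⁻¹ᵁ V) le_rfl)).base Q) =
        ρ.base (hU.fromSpec.base Q) := fun Q => by
      rw [← Scheme.Hom.comp_apply, IsAffineOpen.SpecMap_appLE_fromSpec ρ hV hU le_rfl,
        Scheme.Hom.comp_apply]
    have := hV.fromSpec.isOpenEmbedding.injective ((key P').trans (he.trans (key P).symm))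
    exact congrArg PrimeSpectrum.asIdeal this
  congr 1
  refine PrimeSpectrum.ext ?_
  by_contra hne
  algebraize [(ρ.appLE V (ρ ⁻¹ᵁ V) le_rfl).hom]
  exact (Ideal.IsIntegral.comap_lt_comap (R := Γ(Y, V)) (lt_of_le_of_ne hle hne)).ne hc

/-- The points of a fibre whose closure in the fibre is a component have no generalization in it. -/
theorem maximal_iff {X : Type*} [TopologicalSpace X] [QuasiSober X] [T0Space X] {Y : Type*}
    [TopologicalSpace Y] [T0Space Y] (π : X → Y) (hπ : Continuous π) (y : Y) (z : ↥(π ⁻¹' {y})) :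
    closure {z} ∈ irreducibleComponents ↥(π ⁻¹' {y}) ↔
      ∀ z' : X, π z' = y → z' ⤳ z.1 → z' = z.1 := by
  constructor
  · intro hz z' hz' hs
    let w : ↥(π ⁻¹' {y}) := ⟨z', hz'⟩
    have hws : w ⤳ z := (Topology.IsInducing.subtypeVal.specializes_iff).1 hs
    have h1 : closure {z} ⊆ closure {w} := hws.closure_subset
    have h2 : closure {w} ⊆ closure {z} := hz.2 isIrreducible_singleton.closure h1
    have h3 : z ⤳ w := specializes_iff_mem_closure.2 (h2 (subset_closure rfl))
    exact (hs.antisymm (h3.map continuous_subtype_val)).eq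
  · intro hz
    refine ⟨isIrreducible_singleton.closure, fun Z hZ hzZ => ?_⟩
    have hzmem : z ∈ Z := hzZ (subset_closure rfl)
    have hirr : IsIrreducible (Subtype.val '' Z) := hZ.image _ continuous_subtype_val.continuousOn
    let w := hirr.genericPoint
    have hw : IsGenericPoint w (closure (Subtype.val '' Z)) := hirr.isGenericPoint_genericPoint_closure
    have hwz : w ⤳ z.1 := hw.specializes (subset_closure ⟨z, hzmem, rfl⟩)
    have h1 : π w ⤳ y := by
      have := hwz.map hπ
      rwa [show π z.1 = y from z.2] at this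
    have h2 : y ⤳ π w := by
      refine specializes_iff_mem_closure.2 ?_
      refine (image_closure_subset_closure_image hπ).trans (closure_mono ?_)
        ⟨w, hw.mem, rfl⟩
      rintro _ ⟨_, ⟨q, -, rfl⟩, rfl⟩
      exact q.2
    have hwy : π w = y := (h1.antisymm h2).eq
    have hwe : w = z.1 := hz w hwy hwz
    intro q hq
    have hq' : z.1 ⤳ q.1 := hwe ▸ hw.specializes (subset_closure ⟨q, hq, rfl⟩)
    exact specializes_iff_mem_closure.1 ((Topology.IsInducing.subtypeVal.specializes_iff).1 hq')

section Field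

variable {k : Type u} [Field k] (K : Type u) [Field K] [Algebra k K]

/-- A purely transcendental extension is geometrically irreducible. -/
theorem geometricallyIrreducible_adjoin {ι : Type u} (x : ι → K) (hx : AlgebraicIndependent k x) :
    GeometricallyIrreducible (Spec.map (CommRingCat.ofHom
      (algebraMap k ↥(IntermediateField.adjoin k (Set.range x))))) := by
  let E := IntermediateField.adjoin k (Set.range x)
  let x' : ι → E := fun i => ⟨x i, IntermediateField.subset_adjoin k _ (Set.mem_range_self i)⟩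
  have hval : ∀ p : MvPolynomial ι k, (MvPolynomial.aeval x' p : E).1 = MvPolynomial.aeval x p := fun p =>
    (MvPolynomial.comp_aeval_apply (f := x') E.val p)
  have hx' : AlgebraicIndependent k x' := fun p q h => hx (by
    show MvPolynomial.aeval x p = MvPolynomial.aeval x q
    rw [← hval, ← hval, show MvPolynomial.aeval x' p = MvPolynomial.aeval x' q from h])
  have hfrac : ∀ e : E, ∃ r s : MvPolynomial ι k, s ≠ 0 ∧
      MvPolynomial.aeval x' s * e = MvPolynomial.aeval x' r := by
    rintro ⟨e, he⟩
    obtain ⟨r, s, rfl⟩ := (IntermediateField.mem_adjoin_range_iff k x e).1 he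
    by_cases hs : MvPolynomial.aeval x s = 0
    · refine ⟨0, 1, one_ne_zero, Subtype.ext ?_⟩
      simp [hs]
    · refine ⟨r, s, fun h => hs (by rw [h, map_zero]), Subtype.ext ?_⟩
      show (MvPolynomial.aeval x' s : E).1 * _ = (MvPolynomial.aeval x' r : E).1
      rw [hval, hval, mul_div_cancel₀ _ hs]
  refine ⟨geometrically_iff_of_commRing.2 fun L _ _ Z fst snd hZ => ?_⟩
  haveI := TensorNoEmb.isDomain_transcendental (L := L) x' hx' hfrac
  haveI : IrreducibleSpace ↥(Spec (CommRingCat.of (E ⊗[k] L))) :=
    inferInstanceAs (IrreducibleSpace (PrimeSpectrum (E ⊗[k] L)))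
  exact (hZ.isoPullback ≪≫ pullbackSpecIso k E L).hom.homeomorph.irreducibleSpace_iff.2 ‹_›

variable {G : Scheme.{u}} (f : G ⟶ Spec (CommRingCat.of k))

/-- Points of `G ⊗ K` in a given dense open: openness of the locus in `G`. -/
theorem isOpen_locus (W : (pullback f (Spec.map (CommRingCat.ofHom (algebraMap k K)))).Opens) :
    IsOpen {g : G | ∀ z, (pullback.fst f (Spec.map (CommRingCat.ofHom (algebraMap k K)))).base z = g →
      (∀ z', (pullback.fst f (Spec.map (CommRingCat.ofHom (algebraMap k K)))).base z' = g →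
        z' ⤳ z → z' = z) → z ∈ W} := by
  classical
  obtain ⟨s, hs⟩ := exists_isTranscendenceBasis k K
  let E := IntermediateField.adjoin k (Set.range (Subtype.val : s → K))
  haveI : Algebra.IsAlgebraic E K := hs.isAlgebraic_field
  let a := Spec.map (CommRingCat.ofHom (algebraMap k K))
  let b := Spec.map (CommRingCat.ofHom (algebraMap k E))
  let c := Spec.map (CommRingCat.ofHom (algebraMap E K))
  haveI : GeometricallyIrreducible b := geometricallyIrreducible_adjoin K _ hs.1
  haveI : IsIntegralHom c := by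
    rw [IsIntegralHom.SpecMap_iff]
    exact algebraMap_isIntegral_iff.mpr (Algebra.IsAlgebraic.isIntegral)
  haveI : Flat c := by
    rw [HasRingHomProperty.Spec_iff (P := @Flat)]
    exact RingHom.flat_algebraMap_iff.mpr inferInstance
  have hcb : c ≫ b = a := by
    rw [← Spec.map_comp, ← CommRingCat.ofHom_comp, ← IsScalarTower.algebraMap_eq k E K]
  let π : pullback f a ⟶ G := pullback.fst f a
  let π' : pullback f b ⟶ G := pullback.fst f b
  let ρ : pullback f a ⟶ pullback f b :=
    pullback.lift π (pullback.snd f a ≫ c) (by rw [Category.assoc, hcb, pullback.condition])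
  have hρπ : ρ ≫ π' = π := pullback.lift_fst _ _ _
  have hsq : IsPullback ρ (pullback.snd f a) (pullback.snd f b) c :=
    IsPullback.of_right (h₁₂ := π') (v₁₃ := f) (h₂₂ := b)
      (by rw [hρπ, hcb]; exact IsPullback.of_hasPullback f a)
      (pullback.lift_snd _ _ _) (IsPullback.of_hasPullback f b)
  haveI : IsIntegralHom ρ := MorphismProperty.of_isPullback hsq.flip ‹IsIntegralHom c›
  haveI : Flat ρ := MorphismProperty.of_isPullback hsq.flip ‹Flat c›
  have hπ' : ∀ z, π'.base (ρ.base z) = π.base z := fun z => by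
    rw [← Scheme.Hom.comp_apply, hρπ]
  let C : Set ↥(pullback f a) := (W : Set ↥(pullback f a))ᶜ
  have hC1 : IsClosed (ρ.base '' C) := ρ.isClosedMap _ W.isOpen.isClosed_compl
  convert (π'.isOpenMap _ hC1.isOpen_compl) using 1
  refine Set.ext fun g => ⟨fun hg => ?_, ?_⟩
  · by_contra hn
    have hsub : π'.base ⁻¹' {g} ⊆ ρ.base '' C := fun y hy => by
      by_contra hy'
      exact hn ⟨y, hy', hy⟩
    have hirr : IsIrreducible (π'.base ⁻¹' {g}) :=
      π'.isIrreducible_preimage π'.isOpenMap isIrreducible_singleton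
    obtain ⟨ξ, hξ⟩ : ∃ ξ, IsGenericPoint ξ (closure (π'.base ⁻¹' {g})) :=
      QuasiSober.sober hirr.closure isClosed_closure
    have hξg : π'.base ξ = g := by
      obtain ⟨y, hy⟩ := hirr.nonempty
      have h1 : π'.base ξ ⤳ g := by
        have := (hξ.specializes (subset_closure hy)).map π'.continuous
        rwa [show π'.base y = g from hy] at this
      have h2 : g ⤳ π'.base ξ := by
        refine specializes_iff_mem_closure.2 ?_
        refine (image_closure_subset_closure_image π'.continuous).trans (closure_mono ?_)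
          ⟨ξ, hξ.mem, rfl⟩
        rintro _ ⟨q, hq, rfl⟩
        exact hq
      exact (h1.antisymm h2).eq
    obtain ⟨z, hzC, hz⟩ := hsub hξg
    refine hzC (hg z (by rw [← hπ', hz, hξg]) fun z' hz' hs' => ?_)
    have h1 : ξ ⤳ ρ.base z' := hξ.specializes (subset_closure (show π'.base _ = g by rw [hπ', hz']))
    have h2 : ρ.base z' ⤳ ξ := hz ▸ hs'.map ρ.continuous
    exact eq_of_specializes ρ hs' ((h2.antisymm h1).eq.trans hz.symm)
  · rintro ⟨y, hy, rfl⟩ z hz hmax
    by_contra hzW
    refine hy ?_
    have hirr : IsIrreducible (π'.base ⁻¹' {π'.base y}) :=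
      π'.isIrreducible_preimage π'.isOpenMap isIrreducible_singleton
    obtain ⟨ξ, hξ⟩ : ∃ ξ, IsGenericPoint ξ (closure (π'.base ⁻¹' {π'.base y})) :=
      QuasiSober.sober hirr.closure isClosed_closure
    have hξg : π'.base ξ = π'.base y := by
      have h1 : π'.base ξ ⤳ π'.base y := (hξ.specializes (subset_closure rfl)).map π'.continuous
      have h2 : π'.base y ⤳ π'.base ξ := by
        refine specializes_iff_mem_closure.2 ?_
        refine (image_closure_subset_closure_image π'.continuous).trans (closure_mono ?_)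
          ⟨ξ, hξ.mem, rfl⟩
        rintro _ ⟨q, hq, rfl⟩
        exact hq
      exact (h1.antisymm h2).eq
    have hξz : ξ ⤳ ρ.base z := hξ.specializes (subset_closure (show π'.base _ = π'.base y by rw [hπ', hz]))
    obtain ⟨z', hz', hρ⟩ := Flat.generalizingMap ρ hξz
    have := hmax z' (by rw [← hπ', hρ, hξg]) hz'
    subst this
    exact hC1.stableUnderSpecialization (hξ.specializes (subset_closure rfl)) ⟨z', hzW, hρ⟩

end Field

/-- A point without generalizations lies in every dense open of a noetherian scheme. -/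
theorem mem_of_dense {X : Scheme.{u}} [IsNoetherian X] (W : X.Opens) (hW : Dense (W : Set X)) (z : X)
    (hz : ∀ z', z' ⤳ z → z' = z) : z ∈ W := by
  have hgen : ∀ Z ∈ irreducibleComponents X, z ∈ Z → Z = closure {z} := fun Z hZ hzZ => by
    obtain ⟨w, hw⟩ := QuasiSober.sober hZ.1 (isClosed_of_mem_irreducibleComponents Z hZ)
    have := hz w (hw.specializes hzZ)
    rw [← this]; exact hw.symm
  let others := irreducibleComponents X \ {closure {z}}
  have hfin : others.Finite :=
    TopologicalSpace.NoetherianSpace.finite_irreducibleComponents.sdiff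
  have hclosed : IsClosed (⋃ Z ∈ others, Z) :=
    hfin.isClosed_biUnion fun Z hZ => isClosed_of_mem_irreducibleComponents Z hZ.1
  have hzn : z ∈ (⋃ Z ∈ others, Z)ᶜ := fun h => by
    simp only [Set.mem_iUnion] at h
    obtain ⟨Z, hZ, hzZ⟩ := h
    exact hZ.2 (hgen Z hZ.1 hzZ)
  obtain ⟨y, hy, hyW⟩ := hW.inter_open_nonempty _ hclosed.isOpen_compl ⟨z, hzn⟩
  have hyz : z ⤳ y := by
    refine specializes_iff_mem_closure.2 ?_
    by_contra hn
    refine hy ?_
    simp only [Set.mem_iUnion]
    exact ⟨irreducibleComponent y, ⟨irreducibleComponent_mem_irreducibleComponents y,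
      fun h => hn (h ▸ mem_irreducibleComponent)⟩, mem_irreducibleComponent⟩
  exact hyz.mem_open W.isOpen hyW

/-- The statement. -/
theorem main {k : Type u} [Field k] (K : Type u) [Field K] [Algebra k K] {G : Scheme.{u}}
    (f : G ⟶ Spec (CommRingCat.of k)) [LocallyOfFiniteType f] [QuasiCompact f]
    (W : (pullback f (Spec.map (CommRingCat.ofHom (algebraMap k K)))).Opens)
    (hW : Dense (W : Set ↥(pullback f (Spec.map (CommRingCat.ofHom (algebraMap k K))))))
    (U : Set G)
    (hU : ∀ g, g ∈ U ↔ ∀ z : ↥((pullback.fst f (Spec.map (CommRingCat.ofHom (algebraMap k K)))).base ⁻¹' {g}),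
      closure {z} ∈ irreducibleComponents _ → z.1 ∈ W) :
    IsOpen U ∧ Dense U := by
  let a := Spec.map (CommRingCat.ofHom (algebraMap k K))
  let π : pullback f a ⟶ G := pullback.fst f a
  have hU' : U = {g : G | ∀ z, π.base z = g →
      (∀ z', π.base z' = g → z' ⤳ z → z' = z) → z ∈ W} := Set.ext fun g => by
    rw [hU]
    exact ⟨fun h z hz hm => h ⟨z, hz⟩ ((maximal_iff π.base π.continuous g ⟨z, hz⟩).2 hm),
      fun h z hz => h z.1 z.2 ((maximal_iff π.base π.continuous g z).1 hz)⟩
  haveI : IsNoetherian G :=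
    { toCompactSpace := QuasiCompact.compactSpace_of_compactSpace f
      toIsLocallyNoetherian := LocallyOfFiniteType.isLocallyNoetherian f }
  haveI : IsNoetherian (pullback f a) :=
    { toCompactSpace := QuasiCompact.compactSpace_of_compactSpace (pullback.snd f a)
      toIsLocallyNoetherian := LocallyOfFiniteType.isLocallyNoetherian (pullback.snd f a) }
  refine ⟨hU' ▸ isOpen_locus K f W, dense_iff_inter_open.2 fun V hV ⟨x, hx⟩ => ?_⟩
  obtain ⟨η, hη⟩ := QuasiSober.sober (isIrreducible_irreducibleComponent (x := x))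
    isClosed_irreducibleComponent
  have hηx : η ⤳ x := hη.specializes mem_irreducibleComponent
  refine ⟨η, hηx.mem_open hV hx, ?_⟩
  rw [hU']
  intro z hz hm
  refine mem_of_dense W hW z fun z' hs => hm z' ?_ hs
  have h1 : π.base z' ⤳ η := hz ▸ hs.map π.continuous
  have h2 : irreducibleComponent x ⊆ closure {π.base z'} := by
    rw [← hη.def]
    exact h1.closure_subset
  have h3 := eq_irreducibleComponent isIrreducible_singleton.closure.isPreirreducible h2
  exact (hη.eq (show IsGenericPoint (π.base z') (irreducibleComponent x) from h3)).symm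

end Groth.Agent.FibreMax
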